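import Mathlib
import Cfsg.Agent.Lib.Sol.PctA

/-! Intrinsic `2`-components with a unique involution: tools. -/

set_option autoImplicit false
set_option linter.unusedSectionVars false
set_option linter.unusedVariables false

namespace CfsgLib.IntSL

open Cfsg Subgroup CfsgLib.PComp CfsgLib.Tech CfsgLib.W2
open CfsgLib.LBal hiding cj
open CfsgLib.StdInt (Two)
open CfsgLib.Sol (O N cm)
open scoped commutatorElement

variable {G : Type*} [Group G] [Finite G] {X J K L M P Q S : Subgroup G} {a b c e g q t u v w x y z : G}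

/-- `J` is 2-quasisimple with the unique involution `t` -/
structure Un (t : G) (J : Subgroup G) : Prop where
  pqs : IsPQs 2 J
  mem : t ∈ J
  ord : orderOf t = 2
  uq : ∀ u ∈ J, u * u = 1 → u = 1 ∨ u = t

/-- `J` is an intrinsic 2-component of the centraliser of its involution `t` -/
structure In (t : G) (J : Subgroup G) : Prop extends Un t J where
  pc : PC 2 J (Cx t)
  zc : ∀ u ∈ J, u ∈ cm J → u * u ∈ O J

theorem pump0 (ht : orderOf t = 2) (h : PC 2 J (Cx t)) : ∃ L, IsPComponent 2 L ∧ J ≤ L ⊔ cj t L := by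
  have h1 := h.map_piO
  rw [Sol.PA.map_Cx ht] at h1
  have h2 : J.map (piO 2 G) ≤ layer _ := by
    rw [← map_pLayer_piO]; exact map_mono (bal_two_singleton ht h)
  obtain ⟨L, hL, h3⟩ := pump (orderOf_piO ht) h1 h2
  obtain ⟨K, hK, rfl⟩ := exists_pc_map_eq hL
  have hK' := pc_map_conj hK t
  refine ⟨K, hK, le_of_le_sup_of_pec_eq h.pqs.pec_eq ?_ (by rw [← ker_piO]; exact coprime_ker_piO)
    (map_piO_le_iff.1 ?_)⟩
  · refine (subnIn_of_le_normalizer (sup_le (pc_le_pLayer hK) (pc_le_pLayer hK')) ?_).isSubnormal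
      (Normal.isSubnormal pLayer_normal)
    intro g hg
    rw [mem_normalizer_iff_cj, cj_sup, mem_normalizer_iff_cj.1 (pLayer_le_normalizer_pc hK hg),
      mem_normalizer_iff_cj.1 (pLayer_le_normalizer_pc hK' hg)]
  · rw [Subgroup.map_sup]
    rcases h3 with ⟨-, h3⟩ | ⟨ν, h3⟩
    · exact h3.trans le_sup_left
    · have := h3.le_orb
      rw [orb_two (LBal.sq_eq_one (orderOf_piO ht))] at this
      exact this.trans (sup_le_sup_left (map_cj (piO 2 G) t K).ge _)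

/-- pump-up inside `X` -/
theorem pump2 (ht : orderOf t = 2) (hX : t ∈ X) (h : PC 2 J (X ⊓ Cx t)) : ∃ L, PC 2 L X ∧ J ≤ L ⊔ cj t L := by
  obtain ⟨L, h1, h2⟩ := pump0 (Sol.PA.ord hX ht) (Sol.PA.sub hX h)
  refine ⟨_, pc_map_subtype.2 h1, (map_subgroupOf_eq_of_le (h.le.trans inf_le_left)).ge.trans
    ((map_mono h2).trans ?_)⟩
  rw [Subgroup.map_sup]
  exact sup_le_sup_left (map_cj X.subtype _ L).le _

theorem le_or (ht : orderOf t = 2) (hX : t ∈ X) (h : PC 2 J (X ⊓ Cx t)) (hK : PC 2 K X) (hn : t ∈ N K) :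
    J ≤ K ∨ ∃ L, PC 2 L X ∧ J ≤ L ⊔ cj t L ∧ L ≠ K ∧ cj t L ≠ K := by
  obtain ⟨L, h1, h2⟩ := pump2 ht hX h
  have e := mem_normalizer_iff_cj.1 hn
  by_cases k : L = K
  · exact .inl (by rwa [k, e, sup_idem] at h2)
  · exact .inr ⟨L, h1, h2, k, fun k' => k (cj_injective t (k'.trans e.symm))⟩

theorem le_or' (ht : orderOf t = 2) (hX : t ∈ X) (h : PC 2 J (X ⊓ Cx t)) (hK : PC 2 K X) (hn : t ∈ N K) :
    J ≤ K ∨ J ≤ cm K :=
  (le_or ht hX h hK hn).imp_right fun ⟨L, h1, h2, h3, h4⟩ => h2.trans (sup_le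
    ((hK.eq_or_le_cmod h1).resolve_left h3.symm) ((hK.eq_or_le_cmod (h1.cj_mem hX)).resolve_left h4.symm))

theorem comm_of (hP : IsPGroup 2 P) (ha : a ∈ P) (hb : b ∈ P) (aJ : a ∈ J) (bJ : b ∈ cm J) : b * a = a * b :=
  commutatorElement_eq_one_iff_mul_comm.1 (Sol.eq_one_of_mem_O (mem_cmod.1 bJ a aJ)
    (Sol.two_of_mem hP (mul_mem (mul_mem (mul_mem hb ha) (inv_mem hb)) (inv_mem ha))))

omit [Finite G] in
theorem exists_inv (h2 : Two a) (h1 : a ≠ 1) : ∃ i : ℕ, a ^ i ≠ 1 ∧ a ^ i * a ^ i = 1 := by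
  obtain ⟨k, hk⟩ := h2
  induction k generalizing a with
  | zero => exact (h1 (by simpa using hk)).elim
  | succ k ih =>
    by_cases e : a * a = 1
    · exact ⟨1, by simpa using h1, by simpa using e⟩
    · obtain ⟨i, hi⟩ := ih e (by rw [← pow_two, ← pow_mul, ← pow_succ', hk])
      exact ⟨2 * i, by rwa [pow_mul, pow_two]⟩

omit [Finite G] in
theorem two_pow (h : Two a) (n : ℕ) : Two (a ^ n) :=
  h.imp fun k hk => by rw [← pow_mul, mul_comm, pow_mul, hk, one_pow]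

namespace Un

variable (h : Un t J)
include h

theorem tt : t * t = 1 := sq_of_ord h.ord

theorem t1 : t ≠ 1 := ne_one_of_ord h.ord

theorem comm (hg : g ∈ N J) : g * t = t * g :=
  mul_inv_eq_iff_eq_mul.1 ((h.uq _ (Tech.conj_mem_of_mem_normalizer hg h.mem) (by
    rw [conj_mul, h.tt]; simp)).resolve_left fun e => h.t1 (conj_eq_one_iff.1 e))

theorem comm' (hg : g ∈ J) : g * t = t * g := h.comm (le_normalizer hg)

theorem cm : t ∈ cm J := centralizer_le_cmod J fun _ hg => h.comm' hg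

theorem cj (g : G) : Un (g * t * g⁻¹) (cj g J) :=
  ⟨(isPQs_map_iff_of_injective (MulAut.conj g).injective).2 h.pqs, conj_mem_cj.2 h.mem, (ord_conj g t).trans h.ord,
    fun u hu e => (h.uq _ (mem_cj.1 hu) (by
      rw [show g⁻¹ * u * g * (g⁻¹ * u * g) = g⁻¹ * (u * u) * g by group, e]; simp)).imp
      (fun k => by simpa [mul_assoc] using congrArg (fun x => g * x * g⁻¹) k) fun k => by rw [← k]; group⟩

theorem ky (he : orderOf e = 2) (hc : e ∈ Sol.cm J) (c : t * e = e * t) : Un t (Ky 2 J e) :=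
  ⟨(ky_pc (H := J) ⟨SubnIn.refl J, h.pqs⟩ he hc).pqs, Sol.mem_ky h.mem (mem_Cx.2 c) (Sol.two_of_ord h.ord), h.ord,
    fun u hu => h.uq u (ky_le _ _ hu)⟩

/-- a power of a 2-element of order at least four has square `t` -/
theorem exists_pow (ha : a ∈ J) (h2 : Two a) (h1 : a * a ≠ 1) : ∃ i : ℕ, a ^ i * a ^ i = t := by
  obtain ⟨i, h3, h4⟩ := exists_inv (by rw [← pow_two]; exact two_pow h2 2) h1
  exact ⟨i, by
    rw [← (Commute.refl a).mul_pow]; exact (h.uq _ (pow_mem (mul_mem ha ha) i) h4).resolve_left h3⟩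

theorem exists_pow' (ha : a ∈ J) (h2 : Two a) (h1 : a ≠ 1) : ∃ i : ℕ, a ^ i = t := by
  obtain ⟨i, h3, h4⟩ := exists_inv h2 h1
  exact ⟨i, (h.uq _ (pow_mem ha i) h4).resolve_left h3⟩

theorem mem_cm (ha : a ∈ J) (h2 : a * a ∈ O J) : a ∈ Sol.cm J := by
  have h3 := Sol.odd_of_mem_O h2
  refine mem_of_coprime_pow (a := 2) (b := orderOf (a * a)) (Nat.coprime_two_left.2 h3)
    (by rw [pow_two]; exact opOf_le_cmod J h2) ?_
  rcases h.uq _ (pow_mem ha (orderOf (a * a))) (by rw [← (Commute.refl a).mul_pow, pow_orderOf_eq_one]) with e | e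
  · rw [e]; exact one_mem _
  · rw [e]; exact h.cm

theorem exists_four (hQ : IsSylowIn 2 Q J) : ∃ q ∈ Q, q * q = t := by
  obtain ⟨a, ha, h1⟩ : ∃ a ∈ Q, a ∉ Sol.cm J := by
    by_contra! k
    refine LBal.IsPQs.not_le_cmod h.pqs (le_of_pec_eq h.pqs.pec_eq fun x hx n hn => ?_)
    obtain ⟨g, hg, e⟩ := hQ.exists_conj_mem hx (isPGroup_zpowers_iff.2 ⟨n, hn⟩)
    have := Tech.conj_mem_of_mem_normalizer (normalizer_le_normalizer_cmod J (le_normalizer (inv_mem hg))) (k _ e)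
    simpa [mul_assoc] using this
  obtain ⟨i, hi⟩ := h.exists_pow (hQ.le ha) (Sol.two_of_mem hQ.pgroup ha) fun e =>
    h1 (h.mem_cm (hQ.le ha) (e ▸ one_mem _))
  exact ⟨_, pow_mem ha i, hi⟩

/-- the `Z*`-theorem -/
theorem fus (hz : orderOf z = 2) (hn : z ∈ N J) (hc : z ∉ Sol.cm J) : ∃ k ∈ J, k * z * k⁻¹ = z * t := by
  by_contra! k
  have zz := sq_of_ord hz
  have hX : z ∈ J ⊔ zpowers z := mem_sup_right (mem_zpowers z)
  have h1 := le_of_isolated (K := J ⊔ zpowers z) (M := ((J ⊔ zpowers z) ⊓ Cx z) ⊔ O (J ⊔ zpowers z)) hz hX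
    (fun g hg c => ?_) le_sup_right le_sup_left
  · refine hc (mem_cmod.2 fun j hj => inf_opOf_le (K := J ⊔ zpowers z) le_sup_left ⟨?_, comm_mem_of_le_sup
      (inf_le_left.trans (le_normalizer_opOf _)) (le_normalizer_opOf _ hX) (fun a ha => ?_) h1 j (mem_sup_left hj)⟩)
    · exact J.mul_mem (Tech.conj_mem_of_mem_normalizer hn hj) (inv_mem hj)
    · rw [commutatorElement_eq_one_iff_mul_comm.2 (mem_Cx.1 ha.2).symm]; exact one_mem _
  obtain ⟨j, hj, a, ha, rfl⟩ := Core.mem_sup_of_le_normalizer_left (zpowers_le.2 hn) |>.1 hg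
  have e : j * a * z * (j * a)⁻¹ = j * z * j⁻¹ := by
    obtain ⟨n, rfl⟩ := mem_zpowers_iff.1 ha
    rw [mul_assoc j, ((Commute.refl z).zpow_left n).eq]; group
  rw [e] at c ⊢
  have e2 : z * (j * z * j⁻¹) = z * j * z⁻¹ * j⁻¹ := by rw [inv_eq_of_mul_eq_one_right zz]; group
  rcases h.uq (z * (j * z * j⁻¹)) (e2 ▸ mul_mem (Tech.conj_mem_of_mem_normalizer hn hj) (inv_mem hj)) (by
    rw [mul_assoc, ← mul_assoc _ z, mem_Cx.1 c, mul_assoc z, conj_mul, zz, ← mul_assoc, zz]; simp) with e3 | e3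
  · rw [← inv_eq_of_mul_eq_one_right e3, inv_eq_of_mul_eq_one_right zz]
  · exact absurd (by rw [← e3, ← mul_assoc, zz, one_mul]) (k j hj)

theorem fus' (hz : orderOf z = 2) (hn : z ∈ N J) (hc : z ∉ Sol.cm J) (he : orderOf e = 2) (eJ : e ∈ Sol.cm J)
    (c : t * e = e * t) (c' : z * e = e * z) : ∃ k ∈ J, k * e = e * k ∧ k * z * k⁻¹ = z * t := by
  obtain ⟨k, hk, e1⟩ := (h.ky he eJ c).fus hz (by
    rw [mem_normalizer_iff_cj, Sol.cj_Ky, mem_normalizer_iff_cj.1 hn, c', mul_inv_cancel_right]) fun k =>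
    hc (cmod_of_cover (ky_le _ _) (ky_cov h.pqs he eJ) hn fun j hj =>
      opOf_le_of_cover (ky_le _ _) (ky_cov h.pqs he eJ) (mem_cmod.1 k j hj))
  exact ⟨k, ky_le _ _ hk, mem_Cx.1 (ky_le' _ _ hk), e1⟩

theorem fusQ (hz : orderOf z = 2) (hn : z ∈ N J) (hc : z ∉ Sol.cm J) (hQ : IsSylowIn 2 Q J) (zQ : z ∈ N Q) :
    ∃ k ∈ Q, k * z * k⁻¹ = z * t := by
  have zz := sq_of_ord hz
  have zt := h.comm hn
  have h1 : ¬ Q ≤ Cx z := fun hle => by
    obtain ⟨k, hk, e⟩ := h.fus hz hn hc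
    have kt := h.comm' hk
    have kN : k ∈ N (J ⊓ Cx z) := mem_normalizer_of_forall fun x hx =>
      ⟨J.mul_mem (mul_mem hk hx.1) (inv_mem hk), by
        have e1 := mem_Cx.1 ((conj_mem_Cx (g := k)).2 hx.2)
        have e2 := h.comm' (mul_mem (mul_mem hk hx.1) (inv_mem hk))
        rw [e, ← mul_assoc, mul_assoc z t, ← e2, ← mul_assoc] at e1
        exact mem_Cx.2 (mul_right_cancel e1)⟩
    obtain ⟨n, m, hm, e1⟩ := Nat.exists_eq_two_pow_mul_odd (orderOf_pos k).ne'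
    obtain ⟨g, hg, e2⟩ := (hQ.of_le (K := J ⊓ N (J ⊓ Cx z)) (le_inf hQ.le ((le_inf hQ.le hle).trans le_normalizer))
      inf_le_left).exists_conj_mem (pow_mem (⟨hk, kN⟩ : k ∈ J ⊓ N _) m)
      (isPGroup_zpowers_of_pow (k := n) (by rw [← pow_mul, mul_comm, ← e1, pow_orderOf_eq_one]))
    have e3 := Tech.conj_mem_of_mem_normalizer (inv_mem hg.2) (⟨hQ.le e2, hle e2⟩ : _ ∈ J ⊓ Cx z)
    have e4 : k ∈ Cx z := mem_of_coprime_pow (a := 2) (b := m) (Nat.coprime_two_left.2 hm) (mem_Cx'.2 (by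
      rw [show k ^ 2 * z * (k ^ 2)⁻¹ = k * (k * z * k⁻¹) * k⁻¹ by rw [pow_two]; group, e, ← conj_mul, e, kt, mul_inv_cancel_right,
        mul_assoc, h.tt, mul_one])) (by simpa [mul_assoc] using e3.2)
    exact h.t1 (mul_eq_left.1 (e.symm.trans (mem_Cx'.1 e4)))
  have hP : IsPGroup 2 ↥(Q ⊔ zpowers z) := hQ.pgroup.to_sup_of_normal_left' (isPGroup_two_zpowers zz) (zpowers_le.2 zQ)
  obtain ⟨n, hn1, hn2, hn3⟩ := exists_mem_normalizer_of_lt hP (Q := (Q ⊔ zpowers z) ⊓ Cx z)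
    (lt_of_le_of_ne inf_le_left fun e => h1 (le_sup_left.trans (inf_eq_left.1 e)))
  obtain ⟨j, hj, a, ha, rfl⟩ := Core.mem_sup_of_le_normalizer_left (zpowers_le.2 zQ) |>.1 hn1
  have e : j * a * z * (j * a)⁻¹ = j * z * j⁻¹ := by
    obtain ⟨n, rfl⟩ := mem_zpowers_iff.1 ha
    rw [mul_assoc j, ((Commute.refl z).zpow_left n).eq]; group
  have c := (Tech.conj_mem_of_mem_normalizer hn3 ⟨mem_sup_right (mem_zpowers z), mem_Cx.2 rfl⟩).2
  rw [e] at c
  have e2 : z * (j * z * j⁻¹) = z * j * z⁻¹ * j⁻¹ := by rw [inv_eq_of_mul_eq_one_right zz]; group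
  rcases h.uq (z * (j * z * j⁻¹)) (e2 ▸ mul_mem (Tech.conj_mem_of_mem_normalizer hn (hQ.le hj)) (inv_mem (hQ.le hj))) (by
    rw [mul_assoc, ← mul_assoc _ z, mem_Cx.1 c, mul_assoc z, conj_mul, zz, ← mul_assoc, zz]; simp) with e3 | e3
  · refine (hn2 ⟨hn1, mem_Cx'.2 ?_⟩).elim
    rw [e, ← inv_eq_of_mul_eq_one_right e3, inv_eq_of_mul_eq_one_right zz]
  · exact ⟨j, hj, by rw [← e3, ← mul_assoc, zz, one_mul]⟩

end Un

namespace In

variable (h : In t J)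
include h

theorem cj (g : G) : In (g * t * g⁻¹) (cj g J) :=
  ⟨h.toUn.cj g, by rw [← cj_Cx]; exact h.pc.conj g, fun u hu hc => by
    obtain ⟨v, rfl⟩ : ∃ v, u = g * v * g⁻¹ := ⟨g⁻¹ * u * g, by group⟩
    rw [conj_mul, ← Sol.cj_O, conj_mem_cj]
    exact h.zc v (conj_mem_cj.1 hu) (Sol.conj_mem_cm.1 hc)⟩

theorem cj_of_mem (hg : g * t = t * g) : In t (Tech.cj g J) := by
  have := h.cj g
  rwa [hg, mul_inv_cancel_right] at this

theorem not_cm (hq : q ∈ J) (e : q * q = t) : q ∉ Sol.cm J := fun k => Sol.not_mem_O h.ord (e ▸ h.zc q hq k)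

theorem sq_eq (hq : q ∈ J) (h2 : Two q) (k : q ∈ Sol.cm J) : q * q = 1 :=
  Sol.eq_one_of_mem_O (h.zc q hq k) (by rw [← pow_two]; exact two_pow h2 2)

theorem le_cm (hK : PC 2 K (Cx t)) (hne : K ≠ J) : K ≤ Sol.cm J := (h.pc.eq_or_le_cmod hK).resolve_left hne.symm

theorem syl (hS : IsSylowIn 2 S (Cx t)) : IsSylowIn 2 (S ⊓ J) J := by
  refine h.pc.subn.induction_on (P := fun A => IsSylowIn 2 (S ⊓ A) A) ?_ fun A B hAB _ hn hB => ?_
  · rwa [inf_eq_left.mpr hS.le]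
  · have := hB.inf_of_le_normalizer hn
    rwa [inf_assoc, inf_eq_right.mpr hAB] at this

end In

/-- part (ii) -/
theorem two (hJ : In z J) (hK : In w K) (hn : z ∈ N K) : w ∈ N J := by
  have zw := hK.comm hn
  have wC : w ∈ Cx z := mem_Cx.2 zw.symm
  have zz := hJ.tt
  have ww := hK.tt
  by_cases hc : z ∈ cm K
  · exact hJ.pc.pLayerOf_le_normalizer (Sol.bal hK.ord wC (inf_comm (Cx w) _ ▸ ky_pc hK.pc hJ.ord hc)
      (Sol.mem_ky hK.mem wC (Sol.two_of_ord hK.ord)))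
  by_contra hw
  have hJ' := hJ.cj_of_mem zw.symm
  have ne : cj w J ≠ J := fun e => hw (mem_normalizer_iff_cj.2 e)
  obtain ⟨S, hS, wS⟩ := exists_isSylowIn_ge (isPGroup_two_zpowers ww) (zpowers_le.2 wC)
  replace wS := zpowers_le.1 wS
  obtain ⟨q, ⟨qS, qJ⟩, qq⟩ := hJ.exists_four (hJ.syl hS)
  have q2 := Sol.two_of_mem hS.pgroup qS
  obtain ⟨r, hr⟩ : ∃ r, r = w * q * w⁻¹ := ⟨_, rfl⟩
  have rJ : r ∈ cj w J := hr ▸ conj_mem_cj.2 qJ
  have rc := hJ.le_cm hJ'.pc ne rJ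
  have rS : r ∈ S := hr ▸ mul_mem (mul_mem wS qS) (inv_mem wS)
  have rq := comm_of hS.pgroup qS rS qJ rc
  have rr : r * r = z := by rw [hr, conj_mul, qq, ← zw, mul_inv_cancel_right]
  have qz := hJ.comm' qJ
  have rz := hJ'.comm' rJ
  obtain ⟨L, hL, h1⟩ := Sol.dg hJ.pc hK.ord wC hw
  have eL := h1 q qJ q2 (hr ▸ rq.symm)
  rw [← hr] at eL
  have ee : q * r * (q * r) = 1 := by
    rw [mul_assoc, ← mul_assoc r, rq, mul_assoc, rr, ← mul_assoc, qq, zz]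
  have qc := hJ.not_cm qJ qq
  have e1 : q * r ≠ 1 := fun e => qc (by rw [eq_inv_of_mul_eq_one_left e]; exact inv_mem rc)
  have eo := ord_two ee e1
  have eN : ∀ M, PC 2 M (Cx z) → q * r ∈ N M := fun M hM =>
    mul_mem (hM.le_normalizer hJ.pc qJ) (hM.le_normalizer hJ'.pc rJ)
  have ec : q * r ∈ cm K := by
    refine ((le_or' hJ.ord (mem_Cx.2 zw) (inf_comm (Cx z) _ ▸ hL) hK.pc hn).resolve_left fun k => ?_) eL
    exact hw ((hK.uq _ (k eL) ee).resolve_left e1 ▸ eN J hJ.pc)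
  have we : w * (q * r) = q * r * w := (mem_Cx.1 (hL.le eL).2).symm
  have ze : z * (q * r) = q * r * z := (mem_Cx.1 (hL.le eL).1).symm
  obtain ⟨k, hk, ke, kz⟩ := hK.fus' hJ.ord hn hc eo ec we ze
  have e2 : q * w * q⁻¹ = q * r * (z * w) := by
    have : r⁻¹ = r * z := inv_eq_of_mul_eq_one_right (by rw [← mul_assoc, rr, zz])
    calc q * w * q⁻¹ = q * (w * q * w⁻¹)⁻¹ * w := by group
      _ = _ := by rw [← hr, this]; group
  have e3 : k⁻¹ * q * w * (k⁻¹ * q)⁻¹ = q * r * z := by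
    calc k⁻¹ * q * w * (k⁻¹ * q)⁻¹ = k⁻¹ * (q * w * q⁻¹) * k := by group
      _ = k⁻¹ * (q * r * k) * z := by rw [e2, ← kz]; group
      _ = _ := by rw [← ke]; group
  have hT := hK.cj (k⁻¹ * q)
  rw [e3] at hT
  have e4 : q * r ∈ cm (cj (k⁻¹ * q) K) := by
    rw [← Sol.conj_mem_cm (g := k⁻¹ * q)] at ec
    convert ec using 1
    calc q * r = k⁻¹ * (q * r * k) := by rw [← ke]; group
      _ = _ := by rw [mul_assoc k⁻¹ q, show q * (q * r) = q * r * q by rw [mul_assoc q r, rq]]; group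
  have e5 : z ∈ cm (cj (k⁻¹ * q) K) := by
    simpa only [inv_mul_cancel_left] using mul_mem (inv_mem e4) hT.cm
  have uz : q * r * z * z = z * (q * r * z) := by rw [← mul_assoc z, ze]
  obtain ⟨M, hM, h2⟩ := pump2 hT.ord (mem_Cx.2 uz) (inf_comm (Cx (q * r * z)) _ ▸ ky_pc hT.pc hJ.ord e5)
  rw [mem_normalizer_iff_cj.1 (mul_mem (eN M hM) (hM.le_normalizer hJ.pc hJ.mem)), sup_idem] at h2
  have uM := h2 (Sol.mem_ky hT.mem (mem_Cx.2 uz) (Sol.two_of_ord hT.ord))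
  by_cases hM1 : M = J
  · have h3 := hJ'.le_cm hM (hM1 ▸ ne.symm) uM
    have h4 := mul_mem (mul_mem (inv_mem (hJ'.le_cm hJ.pc ne.symm qJ)) h3) (inv_mem hJ'.cm)
    exact hJ'.not_cm rJ rr (by simpa [mul_assoc] using h4)
  · have h4 := mul_mem (mul_mem (hJ.le_cm hM hM1 uM) (inv_mem hJ.cm)) (inv_mem rc)
    exact qc (by simpa [mul_assoc] using h4)

end CfsgLib.IntSL
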