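import Mathlib
import Cfsg.Agent.Lib.IntSL.A

/-! Intrinsic `2`-components with a unique involution: 2-elements of one normalise the other. -/

set_option autoImplicit false
set_option linter.unusedSectionVars false
set_option linter.unusedVariables false

namespace CfsgLib.IntSL

open Cfsg Subgroup CfsgLib.PComp CfsgLib.Tech CfsgLib.W2
open CfsgLib.LBal hiding cj
open CfsgLib.StdInt (Two)
open CfsgLib.Sol (O N cm)
open scoped commutatorElement

variable {G : Type*} [Group G] [Finite G] {X J K L M P Q S W : Subgroup G} {a b c e g q t u v w x y z : G}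

/-- the elements of order four are conjugate modulo the core -/
def C4 (t : G) (J : Subgroup G) : Prop :=
  ∀ u ∈ J, ∀ v ∈ J, u * u = t → v * v = t → ∃ j ∈ J, j * u * j⁻¹ * v⁻¹ ∈ O J

theorem C4.cj (h : C4 t J) (hg : g * t = t * g) : C4 t (cj g J) := fun u hu v hv uu vv => by
  have k : ∀ x, x * x = t → g⁻¹ * x * g * (g⁻¹ * x * g) = t := fun x e => by
    rw [show g⁻¹ * x * g * (g⁻¹ * x * g) = g⁻¹ * (x * x * g) by group, e, ← hg, inv_mul_cancel_left]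
  obtain ⟨j, hj, e⟩ := h _ (mem_cj.1 hu) _ (mem_cj.1 hv) (k u uu) (k v vv)
  refine ⟨_, conj_mem_cj.2 hj, ?_⟩
  rw [← Sol.cj_O, mem_cj]
  convert e using 1
  group

omit [Finite G] in
theorem comm_sub (hW : X ≤ N W) (y : G) : ∃ V : Subgroup G, ∀ g, g ∈ V ↔ g ∈ X ∧ ⁅y, g⁆ ∈ W :=
  ⟨{ carrier := {v | v ∈ X ∧ ⁅y, v⁆ ∈ W}
     one_mem' := ⟨one_mem _, by simp⟩
     mul_mem' := fun {p q} hp hq => ⟨mul_mem hp.1 hq.1, by
       rw [show ⁅y, p * q⁆ = ⁅y, p⁆ * (p * ⁅y, q⁆ * p⁻¹) by simp only [commutatorElement_def]; group]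
       exact mul_mem hp.2 (Tech.conj_mem_of_mem_normalizer (hW hp.1) hq.2)⟩
     inv_mem' := fun {p} hp => ⟨inv_mem hp.1, by
       rw [show ⁅y, p⁻¹⁆ = p⁻¹ * ⁅y, p⁆⁻¹ * p⁻¹⁻¹ by simp only [commutatorElement_def]; group]
       exact Tech.conj_mem_of_mem_normalizer (hW (inv_mem hp.1)) (inv_mem hp.2)⟩ }, fun _ => Iff.rfl⟩

theorem one_cm (hJ : In z J) (hK : In w K) (ne : z ≠ w) (hn : z ∈ N K) (hy : y ∈ K) (yz : y * z = z * y)
    (hc : w ∈ cm J) : y ∈ N J := by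
  by_contra hN
  have zw := hK.comm hn
  have yw := hK.comm' hy
  have h0 := ky_pc hJ.pc hK.ord hc
  have zJ : z ∈ Ky 2 J w := Sol.mem_ky hJ.mem (mem_Cx.2 zw) (Sol.two_of_ord hJ.ord)
  obtain ⟨L, h1, h2, h3, h4⟩ := (le_or hJ.ord (mem_Cx.2 zw) (inf_comm (Cx z) _ ▸ h0) hK.pc hn).resolve_left fun k =>
    ne ((hK.uq z (k zJ) hJ.tt).resolve_left hJ.t1)
  obtain ⟨V, hV⟩ := comm_sub (le_normalizer_opOf (p := 2) (Cx w)) y
  have k : ∀ M, PC 2 M (Cx w) → M ≠ K → M ≤ V := fun M hM e m hm => (hV m).2 ⟨hM.le hm,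
    hM.opOf_le (mem_cmod.1 ((hM.eq_or_le_cmod hK.pc).resolve_left e hy) m hm)⟩
  have h5 := h2.trans (sup_le (k L h1 h3) (k _ (h1.cj_mem (mem_Cx.2 zw)) h4))
  have yC : y ∈ Cx z ⊓ Cx w := ⟨mem_Cx.2 yz, mem_Cx.2 yw⟩
  rcases h0.eq_or_le_cmod (h0.cj_mem yC) with e | e
  · refine LBal.IsPQs.not_le_cmod hJ.pqs ((ky_cov hJ.pqs hK.ord hc).trans (sup_le ?_ (opOf_le_cmod J)))
    exact e.le.trans ((cj_mono y (ky_le _ _)).trans
      (hJ.le_cm (hJ.cj_of_mem yz).pc fun e => hN (mem_normalizer_iff_cj.2 e)))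
  · refine LBal.IsPQs.not_le_cmod h0.pqs fun j hj => ?_
    have h6 : ⁅y, j⁆ ∈ cm (Ky 2 J w) := h0.opOf_le_cmod (inf_opOf_le (K := Cx w) inf_le_right
      ⟨(Cx z ⊓ Cx w).mul_mem (mul_mem (mul_mem yC (h0.le hj)) (inv_mem yC)) (inv_mem (h0.le hj)), ((hV j).1 (h5 hj)).2⟩)
    have := mul_mem (inv_mem h6) (e (conj_mem_cj.2 hj))
    simpa [commutatorElement_def, mul_assoc] using this

theorem sq_eq (hJ : In z J) {j c c' : G} (hj : j ∈ J) (j2 : Two j) (zw : z * w = w * z) (ww : w * w = 1)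
    (jw : j * w * j⁻¹ = w * z) (hc : c ∈ J) (hc' : c' ∈ cm J) (cc : c * c = z) (e : c * c' = w) : j * j = z := by
  by_contra k
  have zz := hJ.tt
  have jz := hJ.comm' hj
  have k1 : j * j ≠ 1 := fun k1 => hJ.t1 ((mul_eq_left (a := w)).1 (by
    rcases hJ.uq j hj k1 with rfl | rfl
    · simpa using jw.symm
    · rw [← jw, zw, mul_inv_cancel_right]))
  obtain ⟨i, hi⟩ := hJ.exists_pow (mul_mem hj hj) (by rw [← pow_two]; exact two_pow j2 2) fun k2 =>
    k ((hJ.uq _ (mul_mem hj hj) k2).resolve_left k1)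
  have uJ := pow_mem (mul_mem hj hj) i
  have uw : Commute ((j * j) ^ i) w := Commute.pow_left (mul_inv_eq_iff_eq_mul.1 (by
    rw [show j * j * w * (j * j)⁻¹ = j * (j * w * j⁻¹) * j⁻¹ by group, jw, ← conj_mul, jw, jz, mul_inv_cancel_right,
      mul_assoc, zz, mul_one])) i
  have uj : Commute ((j * j) ^ i) j := ((Commute.refl j).mul_left (Commute.refl j)).pow_left i
  generalize (j * j) ^ i = u at *
  have uz := hJ.comm' uJ
  have h1 : u * c ∈ cm J := hJ.mem_cm (mul_mem uJ hc) (by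
    have e1 : u * c = c * ⁅c', u⁆ * u := by
      calc u * c = u * (c * c') * c'⁻¹ := by group
        _ = c * c' * u * c'⁻¹ := by rw [e, uw.eq]
        _ = _ := by simp only [commutatorElement_def]; group
    have e2 : u * c * (u * c) = u⁻¹ * ⁅c', u⁆ * u⁻¹⁻¹ := by
      calc u * c * (u * c) = u * c * (c * ⁅c', u⁆ * u) := by rw [← e1]
        _ = u * (c * c) * ⁅c', u⁆ * u := by group
        _ = u⁻¹ * (u * u * z) * ⁅c', u⁆ * u := by rw [cc]; group
        _ = _ := by rw [hi, zz]; group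
    rw [e2]
    exact Tech.conj_mem_of_mem_normalizer (le_normalizer_opOf J (inv_mem uJ)) (mem_cmod.1 hc' u uJ))
  have h2 := mem_cmod.1 (mul_mem h1 hc') j hj
  refine Sol.not_mem_O hJ.ord (X := J) ?_
  convert h2 using 1
  rw [mul_assoc u, e]
  calc z = u * (w * (w * z)) * u⁻¹ := by rw [← mul_assoc w, ww, one_mul, uz, mul_inv_cancel_right]
    _ = u * w * (j * w * (j⁻¹ * u⁻¹)) := by rw [← jw]; group
    _ = _ := by
      rw [← mul_inv_rev, uj.eq, commutatorElement_def, mul_inv_rev u w, inv_eq_of_mul_eq_one_right ww]; group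

theorem one_aux (hJ : In z J) (c4 : C4 z J) (hK : In w K) (ne : z ≠ w) (hn : z ∈ N K) (hy : y ∈ K) (y2 : Two y)
    (yz : y * z = z * y) (hs : y * y ∈ N J) : y ∈ N J := by
  have zw := hK.comm hn
  have yw := hK.comm' hy
  have wC : w ∈ Cx z := mem_Cx.2 zw.symm
  have zz := hJ.tt
  have ww := hK.tt
  by_cases zc : z ∈ cm K
  · exact hJ.pc.pLayerOf_le_normalizer (Sol.bal hK.ord wC (inf_comm (Cx w) _ ▸ ky_pc hK.pc hJ.ord zc)
      (Sol.mem_ky hy (mem_Cx.2 yz) y2))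
  by_cases wc : w ∈ cm J
  · exact one_cm hJ hK ne hn hy yz wc
  have wN := two hJ hK hn
  by_contra hN
  have y1 : y * y ≠ 1 := fun e => hN ((hK.uq y hy e).elim (fun e => e ▸ one_mem _) fun e => e ▸ wN)
  have hJ' := hJ.cj_of_mem yz
  have neJ : cj y J ≠ J := fun e => hN (mem_normalizer_iff_cj.2 e)
  have l1 := hJ.le_cm hJ'.pc neJ
  have l2 := hJ'.le_cm hJ.pc neJ.symm
  obtain ⟨S, hS, yS⟩ := exists_isSylowIn_ge (Sol.two_iff.1 y2) (zpowers_le.2 (mem_Cx.2 yz))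
  replace yS := zpowers_le.1 yS
  obtain ⟨i, hi⟩ := hK.exists_pow hy y2 y1
  have wS : w ∈ S := hi ▸ mul_mem (pow_mem yS i) (pow_mem yS i)
  obtain ⟨j, ⟨jS, jJ⟩, jw⟩ := hJ.fusQ hK.ord wN wc (hJ.syl hS) (mem_normalizer_of_forall fun x hx =>
    ⟨S.mul_mem (mul_mem wS hx.1) (inv_mem wS), Tech.conj_mem_of_mem_normalizer wN hx.2⟩)
  have jz := hJ.comm' jJ
  obtain ⟨r, hr⟩ : ∃ r, r = y * j * y⁻¹ := ⟨_, rfl⟩
  have rJ : r ∈ cj y J := hr ▸ conj_mem_cj.2 jJ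
  have rS : r ∈ S := hr ▸ mul_mem (mul_mem yS jS) (inv_mem yS)
  have rz := hJ'.comm' rJ
  have rw' : r * w * r⁻¹ = w * z := by
    calc r * w * r⁻¹ = y * (j * (y⁻¹ * (w * y)) * j⁻¹) * y⁻¹ := by rw [hr]; group
      _ = _ := by rw [← yw, inv_mul_cancel_left, jw, ← conj_mul, yw, yz]; group
  have rj := comm_of hS.pgroup jS rS jJ (l1 rJ)
  obtain ⟨d, hd⟩ : ∃ d, d = j * r := ⟨_, rfl⟩
  have dS : d ∈ S := hd ▸ mul_mem jS rS
  have dw : d * w = w * d := mul_inv_eq_iff_eq_mul.1 (by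
    rw [hd, show j * r * w * (j * r)⁻¹ = j * (r * w * r⁻¹) * j⁻¹ by group, rw', ← conj_mul, jw, jz,
      mul_inv_cancel_right, mul_assoc, zz, mul_one])
  have sJ := Tech.conj_mem_of_mem_normalizer hs jJ
  have sS : y * y * j * (y * y)⁻¹ ∈ S := mul_mem (mul_mem (mul_mem yS yS) jS) (inv_mem (mul_mem yS yS))
  obtain ⟨v, hv⟩ : ∃ v, v = d * y⁻¹ * d⁻¹ := ⟨_, rfl⟩
  have vS : v ∈ S := hv ▸ mul_mem (mul_mem dS (inv_mem yS)) (inv_mem dS)
  have vK : v ∈ cj d K := hv ▸ conj_mem_cj.2 (inv_mem hy)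
  have ea : y * v = y * y * j * (y * y)⁻¹ * j⁻¹ := by
    calc y * v = y * j * y⁻¹ * (y * r * y⁻¹) * r⁻¹ * j⁻¹ := by rw [hv, hd]; group
      _ = r * (y * y * j * (y * y)⁻¹) * r⁻¹ * j⁻¹ := by rw [← hr]; congr 3; rw [hr]; group
      _ = _ := by rw [comm_of hS.pgroup sS rS sJ (l1 rJ), mul_inv_cancel_right]
  have aJ : y * v ∈ J := ea ▸ mul_mem sJ (inv_mem jJ)
  have a2 := Sol.two_of_mem hS.pgroup (mul_mem yS vS)
  have a1 : y * v ≠ 1 := fun e => by
    rw [ea, mul_inv_eq_one, mul_inv_eq_iff_eq_mul] at e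
    have : Commute w j := by rw [← hi, ← (Commute.refl y).mul_pow]; exact Commute.pow_left e i
    rw [← this.eq, mul_inv_cancel_right] at jw
    exact hJ.t1 (mul_eq_left.1 jw.symm)
  have hK' := hK.cj_of_mem dw
  have dN : d ∉ N K := fun k => by
    obtain ⟨n, e⟩ := hJ.exists_pow' aJ a2 a1
    exact ne ((hK.uq z (e ▸ pow_mem (mul_mem hy (mem_normalizer_iff_cj.1 k ▸ vK)) n) zz).resolve_left hJ.t1)
  have neK : cj d K ≠ K := fun e => dN (mem_normalizer_iff_cj.2 e)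
  have m1 := hK.le_cm hK'.pc neK
  have vy := comm_of hS.pgroup yS vS hy (m1 vK)
  have az : y * v = z := (hJ.uq _ aJ (hJ.sq_eq aJ a2 (l1 (mem_cj.2 (by
    rwa [mul_assoc, mul_assoc, vy, inv_mul_cancel_left]))))).resolve_left a1
  have yv2 : y * y * (v * v) = 1 := by rw [mul_assoc, ← mul_assoc y v, ← vy, mul_assoc, ← mul_assoc, az, zz]
  have yy : y * y = w := (hK.uq _ (mul_mem hy hy) (hK.sq_eq (mul_mem hy hy) (by
    rw [← pow_two]; exact two_pow y2 2) (by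
      rw [eq_inv_of_mul_eq_one_left yv2]; exact inv_mem (m1 (mul_mem vK vK))))).resolve_left y1
  have vv : v * v = w := by rw [eq_inv_of_mul_eq_one_right yv2, yy, inv_eq_of_mul_eq_one_right ww]
  obtain ⟨k, hk, kz⟩ := hK.fus hJ.ord hn zc
  have kw := hK.comm' hk
  have g1 : k * j * w * (k * j)⁻¹ = z := by
    rw [show k * j * w * (k * j)⁻¹ = k * (j * w * j⁻¹) * k⁻¹ by group, jw, ← conj_mul, kz, kw, mul_inv_cancel_right,
      zw, ← mul_assoc, ww, one_mul]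
  have g2 : k * j * z * (k * j)⁻¹ = z * w := by
    rw [show k * j * z * (k * j)⁻¹ = k * (j * z * j⁻¹) * k⁻¹ by group, jz, mul_inv_cancel_right, kz]
  obtain ⟨c, cJ, c', cJ', cc, cc', ec⟩ : ∃ c ∈ J, ∃ c' ∈ cj y J, c * c = z ∧ c' * c' = z ∧ c * c' = z * w := by
    have T1 := hK.cj (k * j)
    have T2 := hK'.cj (k * j)
    rw [g1] at T1 T2
    have n1 := (conj_mem_cj (g := k * j)).2 hy
    have n2 := (conj_mem_cj (g := k * j)).2 vK
    have s1 : k * j * y * (k * j)⁻¹ * (k * j * y * (k * j)⁻¹) = z := by rw [conj_mul, yy, g1]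
    have s2 : k * j * v * (k * j)⁻¹ * (k * j * v * (k * j)⁻¹) = z := by rw [conj_mul, vv, g1]
    have p1 : k * j * y * (k * j)⁻¹ * (k * j * v * (k * j)⁻¹) = z * w := by rw [conj_mul, az, g2]
    have p2 : k * j * v * (k * j)⁻¹ * (k * j * y * (k * j)⁻¹) = z * w := by rw [conj_mul, vy, az, g2]
    have key : ∀ M, In z M → w ∉ cm M → cj (k * j) K = M ∨ cj (k * j) (cj d K) = M := fun M hM e => by
      by_contra! k'
      have := mul_mem (inv_mem hM.cm) (p1 ▸ mul_mem (hM.le_cm T1.pc k'.1 n1) (hM.le_cm T2.pc k'.2 n2))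
      exact e (by simpa using this)
    have wc' : w ∉ cm (cj y J) := fun e => wc ((Sol.conj_mem_cm (g := y)).1 (by rwa [yw, mul_inv_cancel_right]))
    rcases key J hJ wc with e1 | e1 <;> rcases key _ hJ' wc' with e2 | e2
    · exact (neJ (e2.symm.trans e1)).elim
    · exact ⟨_, e1 ▸ n1, _, e2 ▸ n2, s1, s2, p1⟩
    · exact ⟨_, e1 ▸ n2, _, e2 ▸ n1, s2, s1, p2⟩
    · exact (neJ (e2.symm.trans e1)).elim
  have cz := hJ.comm' cJ
  have bJ := mul_mem hJ.mem cJ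
  have bb : z * c * (z * c) = z := by rw [mul_assoc, ← mul_assoc c, cz, mul_assoc, cc, zz, mul_one]
  have eb : z * c * c' = w := by rw [mul_assoc, ec, ← mul_assoc, zz, one_mul]
  generalize z * c = b at bJ bb eb
  have jj := sq_eq hJ jJ (Sol.two_of_mem hS.pgroup jS) zw ww jw bJ (l1 cJ') bb eb
  have rr : r * r = z := by rw [hr, conj_mul, jj, yz, mul_inv_cancel_right]
  have dd : d * d = 1 := by rw [hd, mul_assoc, ← mul_assoc r, rj, mul_assoc, rr, ← mul_assoc, jj, zz]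
  have d1 : d ≠ 1 := fun e => dN (e ▸ one_mem _)
  have dor := ord_two dd d1
  obtain ⟨a, az', aw⟩ : ∃ a, a * z = z * a ∧ a * w * a⁻¹ = d := by
    obtain ⟨a₁, h1, o4⟩ := c4 b bJ j jJ bb jj
    obtain ⟨a₂, h2, o2⟩ := c4.cj yz c' cJ' r rJ cc' rr
    have o1 := mem_cmod.1 (l1 h2) b bJ
    have o3 := mem_cmod.1 (l2 h1) r rJ
    have nO := le_normalizer_opOf (p := 2) (Cx z)
    have n1 := nO (hJ.pc.le h1)
    have h3 := mul_mem (mul_mem (Tech.conj_mem_of_mem_normalizer n1 (hJ.pc.opOf_le o1)) (hJ.pc.opOf_le o4))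
      (Tech.conj_mem_of_mem_normalizer (nO (hJ.pc.le jJ))
        (mul_mem (Tech.conj_mem_of_mem_normalizer n1 (hJ'.pc.opOf_le o2)) (hJ'.pc.opOf_le o3)))
    have h4 : d * (a₁ * a₂ * w * (a₁ * a₂)⁻¹) ∈ O (Cx z) := by
      convert inv_mem h3 using 1
      conv_lhs => rw [← inv_eq_of_mul_eq_one_right ww, ← eb, hd]
      simp only [commutatorElement_def]
      group
    obtain ⟨n, e⟩ := exists_pow_conj_of_odd dd (by rw [conj_mul, ww]; simp) (Sol.odd_of_mem_O h4)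
    refine ⟨(d * (a₁ * a₂ * w * (a₁ * a₂)⁻¹)) ^ n * (a₁ * a₂), mem_Cx.1 (mul_mem (pow_mem (opOf_le _ h4) n)
      (mul_mem (hJ.pc.le h1) (hJ'.pc.le h2))), ?_⟩
    refine Eq.trans ?_ e
    group
  have T1 := hK.cj a
  have T2 := hK'.cj a
  rw [aw] at T1 T2
  have wD : w ∈ Cx d := mem_Cx.2 dw.symm
  have vi : d * y * d⁻¹ = v⁻¹ := by rw [hv]; group
  obtain ⟨M, hM, h1⟩ := Sol.dg hK.pc dor (mem_Cx.2 dw) dN
  have h2 := h1 y hy y2 (vi ▸ Commute.inv_right vy.symm)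
  have e7 : y * v⁻¹ = z * w := by
    rw [← inv_eq_of_mul_eq_one_right ww, ← az, ← vv]; group
  rw [vi, e7] at h2
  rw [inf_comm] at hM
  obtain ⟨L, hL, h3⟩ := pump2 hK.ord wD hM
  have zL : z ∈ N L := by
    have := mul_mem (hL.le_normalizer T1.pc (conj_mem_cj.2 hy)) (hL.le_normalizer T2.pc (conj_mem_cj.2 vK))
    rwa [conj_mul, az, az', mul_inv_cancel_right] at this
  have wL : w ∈ N L := by
    simpa using mul_mem (inv_mem zL) (hL.pLayerOf_le_normalizer (Sol.bal hK.ord wD hM h2))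
  rw [mem_normalizer_iff_cj.1 wL, sup_idem] at h3
  have hL' := hL.cj_mem (mem_Cx.2 (show j * d = d * j by rw [hd, mul_assoc, rj]))
  have h4 := (conj_mem_cj (g := j)).2 (h3 h2)
  rw [← conj_mul, jw, jz, mul_inv_cancel_right, ← zw, ← mul_assoc, zz, one_mul] at h4
  have wK : w ∈ N K := le_normalizer hK.mem
  have h5 := T1.le_cm hL (fun e => ?_) (h3 h2)
  have h6 := T1.le_cm hL' (fun e => ?_) h4
  · refine zc ((Sol.conj_mem_cm (g := a)).1 ?_)
    rw [az', mul_inv_cancel_right]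
    simpa using mul_mem h5 (inv_mem h6)
  · exact (T1.uq w (e ▸ h4) ww).elim hK.t1 fun e => dN (e ▸ wK)
  · refine (T1.uq _ (e ▸ h3 h2) (by rw [mul_assoc, ← mul_assoc w, ← zw, mul_assoc, ww, mul_one, zz])).elim
      (fun e => ne (by rw [eq_inv_of_mul_eq_one_left e, inv_eq_of_mul_eq_one_right ww])) fun e => dN (e ▸ mul_mem hn wK)

/-- part (i) -/
theorem one (hJ : In z J) (c4 : C4 z J) (hK : In w K) (hy : y ∈ K) (y2 : Two y) (y1 : y * y ≠ 1)
    (yz : y * z = z * y) : y ∈ N J := by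
  by_cases ne : z = w
  · subst ne
    exact hJ.pc.le_normalizer hK.pc hy
  obtain ⟨i, hi⟩ := hK.exists_pow hy y2 y1
  have zw : z * w = w * z := by
    rw [← hi]; exact ((Commute.pow_left yz i).mul_left (Commute.pow_left yz i)).symm
  have hn : z ∈ N K := by_contra fun k => y1 (hK.sq_eq hy y2 (hK.le_cm (hK.cj_of_mem zw).pc
    (fun e => k (mem_normalizer_iff_cj.2 e)) (mem_cj.2 (by rwa [mul_assoc, yz, inv_mul_cancel_left]))))
  obtain ⟨n, e⟩ := y2
  clear y1 hi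
  induction n generalizing y with
  | zero => rw [show y = 1 by simpa using e]; exact one_mem _
  | succ n ih =>
    exact one_aux hJ c4 hK ne hn hy ⟨_, e⟩ yz (ih (mul_mem hy hy) (by rw [mul_assoc, yz, ← mul_assoc, yz, mul_assoc])
      (by rw [← pow_two, ← pow_mul, ← pow_succ', e]))

end CfsgLib.IntSL
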