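import Mathlib
import Cfsg.Agent.Lib.IntSL.B
import Cfsg.Agent.Lib.SL2.TwoComm
import Cfsg.Prelude.Def_SporadicB

/-! Intrinsic `2`-components with a unique involution: the models `SL₂(q)` and `2.A₇`. -/

set_option autoImplicit false
set_option linter.unusedSectionVars false
set_option linter.unusedVariables false

namespace CfsgLib.IntSL

open Cfsg Subgroup CfsgLib.PComp CfsgLib.Tech CfsgLib.W2
open CfsgLib.LBal hiding cj
open CfsgLib.Sol (O N cm)
open scoped commutatorElement MatrixGroups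

/-- the facts used about `J / O(J)` -/
def Md (H : Type*) [Group H] : Prop :=
  (∀ x ∈ center H, x * x = 1) ∧ ((∀ x : H, x * x = 1 → x ∈ center H) →
    ∀ u v : H, u * u = v * v → u * u ≠ 1 → u * u * (u * u) = 1 → IsConj u v)

theorem Md.congr {H H' : Type*} [Group H] [Group H'] (h : Md H') (e : H ≃* H') : Md H := by
  have c : ∀ x, e x ∈ center H' ↔ x ∈ center H := fun x => by
    simp only [mem_center_iff]
    exact ⟨fun k g => e.injective (by rw [map_mul, map_mul, k]), fun k g => by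
      rw [← e.apply_symm_apply g, ← map_mul, ← map_mul, k]⟩
  refine ⟨fun x hx => e.injective (by rw [map_mul, map_one, h.1 _ ((c x).2 hx)]), fun k u v h1 h2 h3 => ?_⟩
  have := e.symm.toMonoidHom.map_isConj (h.2 (fun x hx => by
    rw [← e.apply_symm_apply x, c]; exact k _ (by rw [← map_mul, hx, map_one])) (e u) (e v)
    (by rw [← map_mul, ← map_mul, h1]) (by rwa [← map_mul, Ne, map_eq_one_iff _ e.injective])
    (by rw [← map_mul, ← map_mul, h3, map_one]))
  simpa using this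

theorem md_sl {F : Type*} [Field F] [Fintype F] (hF : Odd (Fintype.card F)) : Md SL(2, F) := by
  have h2 : (2 : F) ≠ 0 := Ring.two_ne_zero fun h =>
    Nat.not_even_iff_odd.2 hF (Nat.even_iff.2 (FiniteField.even_card_iff_char_two.1 h))
  refine ⟨fun x hx => (SL2.sq_eq_one_iff_isScal h2 x).2 ((SL2.mem_center_iff_isScal x).1 hx), fun _ u v h1 h3 h4 => ?_⟩
  have := ((SL2.isScal_iff _).1 ((SL2.sq_eq_one_iff_isScal h2 _).1 h4)).resolve_left h3
  exact SL2.isConj_of_sq h2 this (h1 ▸ this)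

theorem a7_type {t : alternatingGroup (Fin 7)} (h : orderOf t = 2) : t.1.cycleType = {2, 2} := by
  rw [← orderOf_coe] at h
  obtain ⟨n, hn⟩ := Equiv.Perm.cycleType_prime_order (σ := t.1) (h ▸ Nat.prime_two)
  have h1 := Equiv.Perm.sum_cycleType_le t.1
  have h2 := Equiv.Perm.sign_of_cycleType t.1
  rw [hn, h] at h1 h2
  rw [Equiv.Perm.mem_alternatingGroup.1 t.2] at h2
  simp only [Multiset.sum_replicate, Multiset.card_replicate, smul_eq_mul, Fintype.card_fin] at h1 h2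
  have h3 : n ≤ 2 := by omega
  rw [hn, h]
  interval_cases n
  · exact absurd h2 (by decide)
  · rfl
  · exact absurd h2 (by decide)

theorem a7_one {s t : alternatingGroup (Fin 7)} (hs : orderOf s = 2) (ht : orderOf t = 2) : IsConj s t := by
  refine alternatingGroup.isConj_of (Equiv.Perm.isConj_iff_cycleType_eq.2 ((a7_type hs).trans (a7_type ht).symm)) ?_
  rw [← Equiv.Perm.sum_cycleType, a7_type hs]
  decide

theorem a7_four {t : alternatingGroup (Fin 7)} (ht : orderOf t = 2) :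
    ∃ s, s * s = 1 ∧ s ≠ 1 ∧ s * t = t * s ∧ s * t ≠ 1 := by
  let a : alternatingGroup (Fin 7) := ⟨Equiv.swap 0 1 * Equiv.swap 2 3, Equiv.Perm.mem_alternatingGroup.2 (by decide)⟩
  let b : alternatingGroup (Fin 7) := ⟨Equiv.swap 0 2 * Equiv.swap 1 3, Equiv.Perm.mem_alternatingGroup.2 (by decide)⟩
  obtain ⟨g, rfl⟩ := isConj_iff.1 (a7_one (s := a) (ord_two (by decide) (by decide)) ht)
  refine ⟨g * b * g⁻¹, ?_, ?_, ?_, ?_⟩
  · rw [conj_mul, show b * b = 1 by decide]; simp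
  · rw [Ne, conj_eq_one_iff]; decide
  · rw [conj_mul, conj_mul, show b * a = a * b by decide]
  · rw [conj_mul, Ne, conj_eq_one_iff]; decide

theorem md_a7 {H : Type*} [Group H] [Finite H] (h : IsNonsplitDoubleCover H (alternatingGroup (Fin 7))) : Md H := by
  obtain ⟨h1, ⟨e⟩, -⟩ := h
  have c2 : ∀ x ∈ center H, x * x = 1 := fun x hx => by
    have := congrArg Subtype.val (pow_card_eq_one' (x := (⟨x, hx⟩ : center H)))
    rwa [h1, pow_two] at this
  refine ⟨c2, fun k u v h2 h3 h4 => ?_⟩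
  let f : H →* alternatingGroup (Fin 7) := e.toMonoidHom.comp (QuotientGroup.mk' _)
  have fs : Function.Surjective f := e.surjective.comp (QuotientGroup.mk'_surjective _)
  have fk : ∀ x, f x = 1 ↔ x ∈ center H := fun x =>
    (map_eq_one_iff _ e.injective).trans (QuotientGroup.eq_one_iff x)
  have zc := k _ h4
  have cz : ∀ x ∈ center H, x = 1 ∨ x = u * u := fun x hx => by
    obtain ⟨y, -, hy⟩ := (Nat.card_eq_two_iff' (1 : center H)).1 h1
    refine or_iff_not_imp_left.2 fun e => ?_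
    exact congrArg Subtype.val ((hy ⟨x, hx⟩ fun k => e (congrArg Subtype.val k)).trans
      (hy ⟨_, zc⟩ fun k => h3 (congrArg Subtype.val k)).symm)
  have o : ∀ x, x * x = u * u → orderOf (f x) = 2 := fun x hx =>
    ord_two (by rw [← map_mul, hx, fk]; exact zc) fun e => h3 (hx ▸ c2 x ((fk x).1 e))
  obtain ⟨g, hg⟩ := isConj_iff.1 (a7_one (o u rfl) (o v h2.symm))
  obtain ⟨g, rfl⟩ := fs g
  rcases cz (g * u * g⁻¹ * v⁻¹) ((fk _).1 (by simp only [map_mul, map_inv, hg, mul_inv_cancel])) with e1 | e1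
  · exact isConj_iff.2 ⟨g, mul_inv_eq_one.1 e1⟩
  obtain ⟨s, s1, s2, s3, s4⟩ := a7_four (o v h2.symm)
  obtain ⟨s, rfl⟩ := fs s
  have ss : s * s = u * u := (cz _ ((fk _).1 (by rw [map_mul, s1]))).resolve_left fun e => s2 ((fk _).2 (k s e))
  rcases cz (s * v * s⁻¹ * v⁻¹) ((fk _).1 (by simp only [map_mul, map_inv, s3]; group)) with e2 | e2
  · refine (s4 ?_).elim
    rw [← map_mul, fk]
    refine k _ ?_
    rw [mul_inv_eq_one, mul_inv_eq_iff_eq_mul] at e2
    rw [mul_assoc, ← mul_assoc v, ← e2, mul_assoc, ← mul_assoc, ss, ← h2, h4]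
  · exact isConj_iff.2 ⟨s⁻¹ * g, by
      rw [show s⁻¹ * g * u * (s⁻¹ * g)⁻¹ = s⁻¹ * (g * u * g⁻¹ * v⁻¹) * v * s by group, e1, ← e2]; group⟩

variable {G : Type*} [Group G] [Finite G] {J : Subgroup G} {z : G}

theorem of_md (hz : z ∈ J ∧ orderOf z = 2 ∧ ∀ t ∈ J, orderOf t = 2 → t = z) (hJ : IsPComponentOf 2 J (Cx z))
    (h : Md (J ⧸ pPrimeCore 2 J)) : In z J ∧ C4 z J := by
  have hp := pc_iff.1 hJ
  have hU : Un z J := ⟨hp.pqs, hz.1, hz.2.1, fun u hu e => or_iff_not_imp_left.2 fun k => hz.2.2 u hu (ord_two e k)⟩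
  have fk : ∀ x : J, piO 2 J x = 1 ↔ (x : G) ∈ O J := fun x => (QuotientGroup.eq_one_iff x).trans mem_opOf_iff.symm
  have fc : ∀ x : J, (x : G) ∈ cm J → piO 2 J x ∈ center _ := fun x hx => mem_center_iff.2 fun q => by
    obtain ⟨k, rfl⟩ := piO_surjective (p := 2) q
    have : piO 2 J ⁅x, k⁆ = 1 := (fk _).2 (mem_cmod.1 hx k k.2)
    rw [map_commutatorElement, commutatorElement_eq_one_iff_mul_comm] at this
    exact this.symm
  refine ⟨⟨hU, hp, fun u hu hc => (fk (⟨u, hu⟩ * ⟨u, hu⟩)).1 (by rw [map_mul]; exact h.1 _ (fc ⟨u, hu⟩ hc))⟩,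
    fun u hu v hv uu vv => ?_⟩
  have e : ∀ x (hx : x ∈ J), x * x = z → piO 2 J ⟨x, hx⟩ * piO 2 J ⟨x, hx⟩ = piO 2 J ⟨z, hz.1⟩ := fun x hx k => by
    rw [← map_mul]; exact congrArg _ (Subtype.ext k)
  obtain ⟨g, hg⟩ := isConj_iff.1 (h.2 (fun x hx => by
      obtain ⟨a, rfl⟩ := piO_surjective (p := 2) x
      exact fc a (hU.mem_cm a.2 ((fk (a * a)).1 (by rwa [map_mul])))) (piO 2 J ⟨u, hu⟩) (piO 2 J ⟨v, hv⟩)
    ((e u hu uu).trans (e v hv vv).symm) (by rw [e u hu uu, Ne, fk]; exact Sol.not_mem_O hz.2.1)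
    (by rw [e u hu uu, ← map_mul, fk, show ((⟨z, hz.1⟩ * ⟨z, hz.1⟩ : J) : G) = 1 from hU.tt]; exact one_mem _))
  obtain ⟨g, rfl⟩ := piO_surjective (p := 2) g
  exact ⟨g, g.2, (fk (g * ⟨u, hu⟩ * g⁻¹ * (⟨v, hv⟩ : J)⁻¹)).1 (by simp only [map_mul, map_inv, hg, mul_inv_cancel])⟩

end CfsgLib.IntSL
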